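import Groth.Prelude.Def_W4c2movlemaddchowShuffle
import Mathlib.Data.Set.Function
import Mathlib.Data.Set.Prod
import Mathlib.Data.Fin.Tuple.Sort
import Mathlib.GroupTheory.Perm.Sign
import Mathlib.Algebra.MonoidAlgebra.Defs
import Mathlib.Data.Fintype.Perm
import Mathlib.Algebra.BigOperators.Group.Finset.Sigma
import Mathlib.Algebra.BigOperators.Group.Finset.Basic
import Mathlib.Order.Hom.Basic

/-!
Shuffle permutations: decomposition of three-block shuffles.
-/
set_option autoImplicit false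
open Equiv

namespace K841.Shuffle

open W4c2movlemaddchow

lemma extRight_castAdd (a t : ℕ) (σ : Perm (Fin a)) (i : Fin a) :
    extRight a t σ (Fin.castAdd t i) = Fin.castAdd t (σ i) := by
  simp [extRight, Equiv.permCongr_apply]

lemma extRight_natAdd (a t : ℕ) (σ : Perm (Fin a)) (i : Fin t) :
    extRight a t σ (Fin.natAdd a i) = Fin.natAdd a i := by
  simp [extRight, Equiv.permCongr_apply]

lemma extRight_inv_castAdd (a t : ℕ) (σ : Perm (Fin a)) (i : Fin a) :
    (extRight a t σ)⁻¹ (Fin.castAdd t i) = Fin.castAdd t (σ⁻¹ i) := by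
  rw [Equiv.Perm.inv_eq_iff_eq, extRight_castAdd]
  simp

lemma extRight_inv_natAdd (a t : ℕ) (σ : Perm (Fin a)) (i : Fin t) :
    (extRight a t σ)⁻¹ (Fin.natAdd a i) = Fin.natAdd a i := by
  rw [Equiv.Perm.inv_eq_iff_eq, extRight_natAdd]

/-- The analogue of `extRight` fixing the first positions. -/
def extL (r b : ℕ) (σ : Perm (Fin b)) : Perm (Fin (r + b)) :=
  finSumFinEquiv.permCongr ((Equiv.refl (Fin r)).sumCongr σ)

lemma extL_castAdd (r b : ℕ) (σ : Perm (Fin b)) (i : Fin r) :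
    extL r b σ (Fin.castAdd b i) = Fin.castAdd b i := by
  simp [extL, Equiv.permCongr_apply]

lemma extL_natAdd (r b : ℕ) (σ : Perm (Fin b)) (i : Fin b) :
    extL r b σ (Fin.natAdd r i) = Fin.natAdd r (σ i) := by
  simp [extL, Equiv.permCongr_apply]

lemma extL_inv_castAdd (r b : ℕ) (σ : Perm (Fin b)) (i : Fin r) :
    (extL r b σ)⁻¹ (Fin.castAdd b i) = Fin.castAdd b i := by
  rw [Equiv.Perm.inv_eq_iff_eq, extL_castAdd]

lemma extL_inv_natAdd (r b : ℕ) (σ : Perm (Fin b)) (i : Fin b) :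
    (extL r b σ)⁻¹ (Fin.natAdd r i) = Fin.natAdd r (σ⁻¹ i) := by
  rw [Equiv.Perm.inv_eq_iff_eq, extL_natAdd]
  simp

/-- Two strictly monotone maps `f ∘ σ = g ∘ σ'` up to permutations of the source agree, and so do
the permutations. -/
lemma eq_of_comp_perm {a : ℕ} {β : Type*} [LinearOrder β] {f g : Fin a → β} (hf : StrictMono f)
    (hg : StrictMono g) (σ σ' : Perm (Fin a)) (h : ∀ i, f (σ i) = g (σ' i)) :
    f = g ∧ σ = σ' := by
  have hfg : f = g := by
    refine hf.range_inj hg |>.1 ?_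
    ext y
    constructor
    · rintro ⟨x, rfl⟩
      refine ⟨σ' (σ⁻¹ x), ?_⟩
      rw [← h]; simp
    · rintro ⟨x, rfl⟩
      refine ⟨σ (σ'⁻¹ x), ?_⟩
      rw [h]; simp
  refine ⟨hfg, ?_⟩
  subst hfg
  ext i
  exact congrArg _ (hf.injective (h i))

lemma exists_sort {a : ℕ} {β : Type*} [LinearOrder β] (f : Fin a → β) :
    ∃ σ : Perm (Fin a), Monotone (fun i => f (σ⁻¹ i)) := by
  refine ⟨(Tuple.sort f)⁻¹, ?_⟩
  simpa [Function.comp_def] using Tuple.monotone_sort f

theorem bijOn_right (r s t : ℕ) :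
    Set.BijOn
      (fun p : Perm (Fin (r + s + t)) × Perm (Fin (r + s)) => p.1 * extRight (r + s) t p.2)
      ({τ | IsShuffle₂ (r + s) t τ} ×ˢ {σ | IsShuffle₂ r s σ})
      {ν | IsShuffle₃ r s t ν} := by
  refine ⟨?_, ?_, ?_⟩
  · rintro ⟨τ, σ⟩ ⟨hτ, hσ⟩
    simp only [Set.mem_ofPred_eq] at hτ hσ ⊢
    obtain ⟨h1, h2⟩ := hτ
    obtain ⟨h3, h4⟩ := hσ
    refine ⟨fun i j hij => ?_, fun i j hij => ?_, fun i j hij => ?_⟩
    · simp only [Perm.mul_apply, extRight_castAdd]
      exact h1 (h3 hij)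
    · simp only [Perm.mul_apply, extRight_castAdd]
      exact h1 (h4 hij)
    · simp only [Perm.mul_apply, extRight_natAdd]
      exact h2 hij
  · rintro ⟨τ, σ⟩ ⟨⟨h1, h2⟩, -⟩ ⟨τ', σ'⟩ ⟨⟨h1', h2'⟩, -⟩ h
    simp only at h
    have hf : StrictMono (fun i : Fin (r + s) => τ (Fin.castAdd t i)) :=
      h1.strictMono_of_injective (τ.injective.comp (Fin.castAdd_injective _ _))
    have hg : StrictMono (fun i : Fin (r + s) => τ' (Fin.castAdd t i)) :=
      h1'.strictMono_of_injective (τ'.injective.comp (Fin.castAdd_injective _ _))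
    obtain ⟨e1, e2⟩ := eq_of_comp_perm hf hg σ σ' (fun i => by
      have := DFunLike.congr_fun h (Fin.castAdd t i)
      simpa [Perm.mul_apply, extRight_castAdd] using this)
    refine Prod.ext ?_ e2
    refine Equiv.ext fun x => ?_
    induction x using Fin.addCases with
    | left i => exact congrFun e1 i
    | right i =>
      have := DFunLike.congr_fun h (Fin.natAdd (r + s) i)
      simpa [Perm.mul_apply, extRight_natAdd] using this
  · rintro ν ⟨h1, h2, h3⟩
    obtain ⟨σ, hσ⟩ := exists_sort (fun i : Fin (r + s) => ν (Fin.castAdd t i))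
    have hσ' : StrictMono (fun i : Fin (r + s) => ν (Fin.castAdd t (σ⁻¹ i))) :=
      hσ.strictMono_of_injective
        (ν.injective.comp ((Fin.castAdd_injective _ _).comp (σ⁻¹).injective))
    have key : ∀ x y : Fin (r + s), ν (Fin.castAdd t x) ≤ ν (Fin.castAdd t y) → σ x ≤ σ y := by
      intro x y hxy
      rw [← hσ'.le_iff_le]
      simpa using hxy
    refine ⟨(ν * (extRight (r + s) t σ)⁻¹, σ), ⟨⟨?_, ?_⟩, ?_, ?_⟩, ?_⟩
    · intro i j hij
      simp only [Perm.mul_apply, extRight_inv_castAdd]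
      exact hσ hij
    · intro i j hij
      simp only [Perm.mul_apply, extRight_inv_natAdd]
      exact h3 hij
    · intro i j hij
      exact key _ _ (h1 hij)
    · intro i j hij
      exact key _ _ (h2 hij)
    · simp

/-- Three-block shuffles for the other bracketing. -/
def IsShuffle₃' (r s t : ℕ) (σ : Perm (Fin (r + (s + t)))) : Prop :=
  Monotone (fun i : Fin r => σ (Fin.castAdd (s + t) i)) ∧
    Monotone (fun j : Fin s => σ (Fin.natAdd r (Fin.castAdd t j))) ∧
      Monotone (fun l : Fin t => σ (Fin.natAdd r (Fin.natAdd s l)))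

theorem bijOn_left' (r s t : ℕ) :
    Set.BijOn
      (fun p : Perm (Fin (r + (s + t))) × Perm (Fin (s + t)) => p.1 * extL r (s + t) p.2)
      ({τ | IsShuffle₂ r (s + t) τ} ×ˢ {σ | IsShuffle₂ s t σ})
      {ν | IsShuffle₃' r s t ν} := by
  refine ⟨?_, ?_, ?_⟩
  · rintro ⟨τ, σ⟩ ⟨hτ, hσ⟩
    simp only [Set.mem_ofPred_eq] at hτ hσ ⊢
    obtain ⟨h1, h2⟩ := hτ
    obtain ⟨h3, h4⟩ := hσ
    refine ⟨fun i j hij => ?_, fun i j hij => ?_, fun i j hij => ?_⟩
    · simp only [Perm.mul_apply, extL_castAdd]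
      exact h1 hij
    · simp only [Perm.mul_apply, extL_natAdd]
      exact h2 (h3 hij)
    · simp only [Perm.mul_apply, extL_natAdd]
      exact h2 (h4 hij)
  · rintro ⟨τ, σ⟩ ⟨⟨h1, h2⟩, -⟩ ⟨τ', σ'⟩ ⟨⟨h1', h2'⟩, -⟩ h
    simp only at h
    have hf : StrictMono (fun i : Fin (s + t) => τ (Fin.natAdd r i)) :=
      h2.strictMono_of_injective (τ.injective.comp (Fin.natAdd_injective _ _))
    have hg : StrictMono (fun i : Fin (s + t) => τ' (Fin.natAdd r i)) :=
      h2'.strictMono_of_injective (τ'.injective.comp (Fin.natAdd_injective _ _))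
    obtain ⟨e1, e2⟩ := eq_of_comp_perm hf hg σ σ' (fun i => by
      have := DFunLike.congr_fun h (Fin.natAdd r i)
      simpa [Perm.mul_apply, extL_natAdd] using this)
    refine Prod.ext ?_ e2
    refine Equiv.ext fun x => ?_
    induction x using Fin.addCases with
    | right i => exact congrFun e1 i
    | left i =>
      have := DFunLike.congr_fun h (Fin.castAdd (s + t) i)
      simpa [Perm.mul_apply, extL_castAdd] using this
  · rintro ν ⟨h1, h2, h3⟩
    obtain ⟨σ, hσ⟩ := exists_sort (fun i : Fin (s + t) => ν (Fin.natAdd r i))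
    have hσ' : StrictMono (fun i : Fin (s + t) => ν (Fin.natAdd r (σ⁻¹ i))) :=
      hσ.strictMono_of_injective
        (ν.injective.comp ((Fin.natAdd_injective _ _).comp (σ⁻¹).injective))
    have key : ∀ x y : Fin (s + t), ν (Fin.natAdd r x) ≤ ν (Fin.natAdd r y) → σ x ≤ σ y := by
      intro x y hxy
      rw [← hσ'.le_iff_le]
      simpa using hxy
    refine ⟨(ν * (extL r (s + t) σ)⁻¹, σ), ⟨⟨?_, ?_⟩, ?_, ?_⟩, ?_⟩
    · intro i j hij
      simp only [Perm.mul_apply, extL_inv_castAdd]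
      exact h1 hij
    · intro i j hij
      simp only [Perm.mul_apply, extL_inv_natAdd]
      exact hσ hij
    · intro i j hij
      exact key _ _ (h2 hij)
    · intro i j hij
      exact key _ _ (h3 hij)
    · simp

lemma isShuffle₃_iff (r s t : ℕ) (ν : Perm (Fin (r + s + t))) :
    IsShuffle₃ r s t ν ↔ IsShuffle₃' r s t ((finCongr (Nat.add_assoc r s t)).permCongr ν) := by
  have e1 : ∀ i : Fin r, (finCongr (Nat.add_assoc r s t)).symm (Fin.castAdd (s + t) i) =
      Fin.castAdd t (Fin.castAdd s i) := fun i => by ext; simp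
  have e2 : ∀ j : Fin s, (finCongr (Nat.add_assoc r s t)).symm (Fin.natAdd r (Fin.castAdd t j)) =
      Fin.castAdd t (Fin.natAdd r j) := fun i => by ext; simp
  have e3 : ∀ l : Fin t, (finCongr (Nat.add_assoc r s t)).symm (Fin.natAdd r (Fin.natAdd s l)) =
      Fin.natAdd (r + s) l := fun i => by ext; simp [Nat.add_assoc]
  unfold IsShuffle₃ IsShuffle₃'
  simp only [Equiv.permCongr_apply, e1, e2, e3]
  rfl

theorem bijOn_left (r s t : ℕ) :
    Set.BijOn
      (fun p : Perm (Fin (r + s + t)) × Perm (Fin (s + t)) => p.1 * extLeft r s t p.2)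
      ({τ | IsShuffle₂ r (s + t) ((finCongr (Nat.add_assoc r s t)).permCongr τ)} ×ˢ
        {σ | IsShuffle₂ s t σ})
      {ν | IsShuffle₃ r s t ν} := by
  set c := finCongr (Nat.add_assoc r s t) with hc
  have hmul : ∀ (τ : Perm (Fin (r + s + t))) (σ : Perm (Fin (s + t))),
      c.permCongr (τ * extLeft r s t σ) = c.permCongr τ * extL r (s + t) σ := by
    intro τ σ
    ext x
    simp [extLeft, extL, Equiv.permCongr_apply, hc]
  obtain ⟨h1, h2, h3⟩ := bijOn_left' r s t
  refine ⟨?_, ?_, ?_⟩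
  · rintro ⟨τ, σ⟩ ⟨hτ, hσ⟩
    have := @h1 (c.permCongr τ, σ) ⟨hτ, hσ⟩
    simp only [Set.mem_ofPred_eq] at this ⊢
    rw [isShuffle₃_iff, ← hc, hmul]
    exact this
  · rintro ⟨τ, σ⟩ ⟨hτ, hσ⟩ ⟨τ', σ'⟩ ⟨hτ', hσ'⟩ h
    have := @h2 (c.permCongr τ, σ) ⟨hτ, hσ⟩ (c.permCongr τ', σ') ⟨hτ', hσ'⟩ (by
      simp only at h ⊢
      rw [← hmul, ← hmul, h])
    simp only [Prod.mk.injEq, EmbeddingLike.apply_eq_iff_eq] at this
    exact Prod.ext this.1 this.2
  · intro ν hν
    obtain ⟨⟨τ, σ⟩, ⟨h4, h5⟩, h6⟩ := @h3 (c.permCongr ν) ((isShuffle₃_iff r s t ν).1 hν)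
    simp only at h6
    refine ⟨(c.permCongr.symm τ, σ), ⟨?_, h5⟩, ?_⟩
    · simp only [Set.mem_ofPred_eq, Equiv.apply_symm_apply]
      exact h4
    · apply c.permCongr.injective
      simp only
      rw [hmul, Equiv.apply_symm_apply, h6]

lemma sign_extRight (a t : ℕ) (σ : Perm (Fin a)) : Perm.sign (extRight a t σ) = Perm.sign σ := by
  simp [extRight]

lemma sign_extLeft (r s t : ℕ) (σ : Perm (Fin (s + t))) :
    Perm.sign (extLeft r s t σ) = Perm.sign σ := by
  simp [extLeft]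

end K841.Shuffle
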